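import Cfsg.Agent.Lib.GlaubSims.Chain

/-!
The inequalities between the length of a chain and its commuting distance.
-/

set_option autoImplicit false
set_option linter.style.haveILetI false

namespace Cfsg.Agent.Lib.GlaubSims

open Subgroup

open scoped commutatorElement

variable {G : Type*} [Group G] [Finite G] {p t : ℕ} [hp : Fact p.Prime]

theorem Chain.comm_ne_one (c : Chain G p t) {d : ℕ} (hd : c.Dist d) : ⁅c.x 0, c.x d⁆ ≠ 1 :=
  fun e => hd.not_comm (commutatorElement_eq_one_iff_commute.mp e)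

theorem Chain.lt_two_mul (c : Chain G p t) {d : ℕ} (hd : c.Dist d) (hdt : d + 1 ≤ t) :
    t + 1 ≤ 2 * d := by
  by_contra hh
  refine c.comm_ne_one hd ?_
  have := hd.low hdt d hd.pos le_rfl (by omega)
  rwa [Nat.sub_self, win_zero, mem_bot] at this

theorem Chain.mem_low (c : Chain G p t) {d : ℕ} (hd : c.Dist d) (hdt : d + 1 ≤ t) :
    ⁅c.x 0, c.x d⁆ ∈ win c.x (t - d : ℕ) (2 * d - t) := by
  have h2 := c.lt_two_mul hd hdt
  have := hd.low hdt (t - d) (by omega) (by omega) (by omega)
  rwa [show d - (t - d) = 2 * d - t by omega] at this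

theorem Chain.mem_high (c : Chain G p t) {d : ℕ} (hd : c.Dist d) (hdt : d + 1 ≤ t) :
    ⁅c.x 0, c.x d⁆ ∈ win c.x 1 (2 * d - t) := by
  have h2 := c.lt_two_mul hd hdt
  have h : ⁅c.x (-0), c.x (-(d : ℤ))⁆ ∈ win (fun i => c.x (-i)) (t - d : ℕ) (2 * d - t) :=
    c.rev.mem_low hd.rev hdt
  rw [neg_zero] at h
  let ψ : ℕ → G →* G := fun k => Nat.rec (MonoidHom.id G) (fun _ f => c.φ.toMonoidHom.comp f) k
  have hψ : ∀ (k : ℕ) (i : ℤ), ψ k (c.x i) = c.x (i + k) := by
    intro k
    induction k with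
    | zero => intro i; show c.x i = _; simp
    | succ k ih =>
      intro i
      show c.φ (ψ k (c.x i)) = _
      rw [ih, c.shift]; congr 1; push_cast; omega
  have h3 := mem_map_of_mem (ψ d) h
  rw [map_commutatorElement, hψ, hψ, zero_add, neg_add_cancel] at h3
  have h4 : (win (fun i => c.x (-i)) ((t - d : ℕ) : ℤ) (2 * d - t)).map (ψ d) ≤
      win c.x 1 (2 * d - t) := by
    rw [map_le_iff_le_comap]
    refine win_le fun j h5 h6 => ?_
    rw [mem_comap, hψ]
    exact mem_win (by omega) (by omega)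
  rw [← commutatorElement_inv]
  exact inv_mem (h4 h3)

theorem Chain.two_mul_le_three (c : Chain G p t) {d : ℕ} (hd : c.Dist d) (hdt : d + 1 ≤ t) :
    2 * t ≤ 3 * d := by
  by_contra hh
  have h2 := c.lt_two_mul hd hdt
  refine c.comm_ne_one hd (c.eq_one_of_mem_win (n := 2 * d - t) (a := 1) (m := d - 1 - (2 * d - t))
    (by omega) (c.mem_high hd hdt) (win_mono ?_ ?_ (c.mem_low hd hdt))) <;> omega

/-- If no nontrivial element of a window is central in the window of length `t + n`, then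
`t ≤ 3n` and `t ≠ 3n - 1`. -/
theorem Chain.bound (c : Chain G p t) {n : ℕ} (hn : 1 ≤ n)
    (hcen : ∀ y ∈ win c.x 0 t, (∀ i : ℤ, 0 ≤ i → i < t + n → Commute (c.x i) y) → y = 1) :
    t ≤ 3 * n ∧ t ≠ 3 * n - 1 := by
  classical
  have ht := c.pos
  obtain ⟨d, hd⟩ : ∃ d, c.Dist d := by
    by_cases he : ∃ k : ℕ, 1 ≤ k ∧ ¬ Commute (c.x 0) (c.x k)
    · obtain ⟨h1, h2⟩ := Nat.find_spec he
      refine ⟨Nat.find he, h1, h2, fun k hk => ?_⟩
      rcases Nat.eq_zero_or_pos k with rfl | hk0
      · exact Commute.refl _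
      · by_contra hc
        exact Nat.find_min he hk ⟨hk0, hc⟩
    exfalso
    push Not at he
    refine c.x_ne_one 0 (hcen _ (mem_win le_rfl (by omega)) fun i h1 h2 => ?_)
    obtain ⟨k, rfl⟩ : ∃ k : ℕ, i = k := ⟨i.toNat, by omega⟩
    rcases Nat.eq_zero_or_pos k with rfl | hk0
    · exact Commute.refl _
    · exact (he k hk0).symm
  have hd1 := hd.pos
  have key : n < d → 2 * d ≤ t + n ∧ d ≤ t := by
    intro hnd
    refine ⟨?_, ?_⟩ <;> by_contra hh
    · rcases Nat.lt_or_ge t d with h | h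
      · refine c.x_ne_one ((t : ℤ) - 1) (hcen _ (mem_win (by omega) (by omega)) fun i h1 h2 => ?_)
        exact hd.commute (by omega) (by omega)
      · refine c.x_ne_one ((d : ℤ) - 1) (hcen _ (mem_win (by omega) (by omega)) fun i h1 h2 => ?_)
        exact hd.commute (by omega) (by omega)
    · refine c.x_ne_one ((t : ℤ) - 1) (hcen _ (mem_win (by omega) (by omega)) fun i h1 h2 => ?_)
      exact hd.commute (by omega) (by omega)
  by_cases hdt : d + 1 ≤ t
  · have := c.two_mul_le_three hd hdt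
    by_cases hnd : n < d
    · have := key hnd; omega
    · omega
  · by_cases hnd : n < d
    · have := key hnd; omega
    · omega

end Cfsg.Agent.Lib.GlaubSims
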