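import Cfsg.Agent.Lib.GlaubSims.Chain
import Cfsg.Agent.Lib.Trivalent.Setup

/-!
The chain of a subgroup meeting a conjugate in a normal subgroup of prime index.
-/

set_option autoImplicit false
set_option linter.style.haveILetI false

namespace Cfsg.Agent.Lib.GlaubSims

open Subgroup

open Cfsg.Agent.Lib.Trivalent (trans inter map_trans trans_zero card_trans map_inter card_inter
  forall_int relIndex_mul_card_of_le)

variable {G : Type*} [Group G]

theorem relIndex_normal_map_iff (φ : MulAut G) (A B : Subgroup G) {p : ℕ} :
    ((B.map (φ : G ≃* G).toMonoidHom) ≤ normalizer ((A.map (φ : G ≃* G).toMonoidHom ⊓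
        B.map (φ : G ≃* G).toMonoidHom : Subgroup G) : Set G) ∧
      (A.map (φ : G ≃* G).toMonoidHom ⊓ B.map (φ : G ≃* G).toMonoidHom).relIndex
        (B.map (φ : G ≃* G).toMonoidHom) ∣ p) ↔
    (B ≤ normalizer ((A ⊓ B : Subgroup G) : Set G) ∧ (A ⊓ B).relIndex B ∣ p) := by
  rw [← map_inf _ _ _ φ.injective, relIndex_map_map_of_injective _ _ φ.injective]
  constructor
  · rintro ⟨ha, hb⟩
    refine ⟨fun y hy => ?_, hb⟩
    have h := ha (mem_map_of_mem _ hy)
    rw [mem_normalizer_iff] at h ⊢
    intro z
    have hz := h (φ z)
    rw [show (φ : G ≃* G).toMonoidHom y = φ y from rfl, ← map_inv, ← map_mul, ← map_mul] at hz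
    constructor
    · intro hzm
      obtain ⟨w, hw, e⟩ := hz.mp (mem_map_of_mem _ hzm)
      exact φ.injective e ▸ hw
    · intro hzm
      obtain ⟨w, hw, e⟩ := hz.mpr (mem_map_of_mem _ hzm)
      exact φ.injective e ▸ hw
  · rintro ⟨ha, hb⟩
    exact ⟨(map_mono ha).trans (le_normalizer_map _), hb⟩

theorem exists_chain [Finite G] {p : ℕ} [hp : Fact p.Prime] (φ : MulAut G) (P : Subgroup G)
    (hn : trans φ P 1 ≤ normalizer ((P ⊓ trans φ P 1 : Subgroup G) : Set G))
    (hidx : (P ⊓ trans φ P 1).relIndex (trans φ P 1) = p)
    (h1 : ∀ Q : Subgroup G, Q ≤ P → P ≤ normalizer (Q : Set G) →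
      Q.map (φ : G ≃* G).toMonoidHom = Q → Q = ⊥) :
    ∃ (t : ℕ) (c : Chain G p t), ∀ i, win c.x i t = trans φ P i := by
  classical
  have hp1 : 1 < p := hp.out.one_lt
  -- each intersection is normal of index dividing `p` in the next
  have hnorm : ∀ k i, inter φ P k (i + 1) ≤ normalizer (inter φ P (k + 1) i : Set G) ∧
      (inter φ P (k + 1) i).relIndex (inter φ P k (i + 1)) ∣ p := by
    intro k
    induction k with
    | zero =>
      refine fun i => forall_int (p := fun i =>
        trans φ P (i + 1) ≤ normalizer ((trans φ P i ⊓ trans φ P (i + 1) : Subgroup G) : Set G) ∧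
          (trans φ P i ⊓ trans φ P (i + 1)).relIndex (trans φ P (i + 1)) ∣ p) ?_ (fun i => ?_) i
      · rw [trans_zero, zero_add]
        exact ⟨hn, hidx ▸ dvd_rfl⟩
      · have key := relIndex_normal_map_iff φ (trans φ P i) (trans φ P (i + 1)) (p := p)
        rw [map_trans, map_trans] at key
        exact key.symm
    | succ k ih =>
      intro i
      obtain ⟨ha, hb⟩ := ih i
      have hle : inter φ P (k + 1) (i + 1) ≤ inter φ P k (i + 1) := inf_le_left
      refine ⟨fun y hy => ?_, ?_⟩
      · have h1 := mem_normalizer_iff.mp (ha (hle hy))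
        have h2 := mem_normalizer_iff.mp
          (Subgroup.le_normalizer (H := inter φ P (k + 1) (i + 1)) hy)
        rw [mem_normalizer_iff]
        exact fun z => and_congr (h1 z) (h2 z)
      · show (inter φ P (k + 1) i ⊓ inter φ P (k + 1) (i + 1)).relIndex
          (inter φ P (k + 1) (i + 1)) ∣ p
        rw [inf_relIndex_right]
        refine dvd_trans ?_ hb
        have hK : inter φ P (k + 1) i ≤ inter φ P k (i + 1) := inf_le_right
        haveI : ((inter φ P (k + 1) i).subgroupOf (inter φ P k (i + 1))).Normal :=
          (normal_subgroupOf_iff_le_normalizer hK).mpr ha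
        rw [← relIndex_subgroupOf hle]
        exact relIndex_dvd_index_of_normal _ _
  -- one step: either equality or index `p`
  have hone : ∀ k, Nat.card (inter φ P k 0) = Nat.card (inter φ P (k + 1) 0) ∨
      Nat.card (inter φ P k 0) = p * Nat.card (inter φ P (k + 1) 0) := by
    intro k
    have h := relIndex_mul_card_of_le (inf_le_right : inter φ P (k + 1) 0 ≤ inter φ P k (0 + 1))
    rw [card_inter φ P k (0 + 1)] at h
    change (inter φ P (k + 1) 0).relIndex (inter φ P k (0 + 1)) *
      Nat.card ↥(inter φ P (k + 1) 0) = _ at h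
    rcases (Nat.dvd_prime hp.out).mp (hnorm k 0).2 with e | e <;> rw [e] at h
    · left; omega
    · exact Or.inr h.symm
  have hne0 : ∀ i, trans φ P i ≠ trans φ P (i + 1) := by
    refine forall_int ?_ fun i => ?_
    · rw [trans_zero, zero_add]
      intro e
      rw [← e, inf_idem, relIndex_self] at hidx
      omega
    · rw [← map_trans φ P (i + 1), ← map_trans φ P i]
      exact ((map_injective φ.injective).ne_iff).symm
  -- no stagnation before the trivial group
  have hstrict : ∀ k, inter φ P k 0 ≠ ⊥ →
      Nat.card (inter φ P k 0) = p * Nat.card (inter φ P (k + 1) 0) := by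
    intro k
    induction k using Nat.strong_induction_on with
    | _ k ih =>
      intro hk
      refine (hone k).resolve_left fun e => hk ?_
      have e0 : inter φ P (k + 1) 0 = inter φ P k 0 := eq_of_le_of_card_ge inf_le_left e.le
      have e1 : inter φ P k 0 = inter φ P k (0 + 1) :=
        eq_of_le_of_card_ge (inf_eq_left.mp e0) (by rw [card_inter])
      have hX : ∀ i, inter φ P k i = inter φ P k 0 := by
        refine forall_int rfl fun i => ?_
        rw [← map_inter]
        constructor <;> intro h
        · rw [h, map_inter]; exact e1.symm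
        · refine map_injective (f := (φ : G ≃* G).toMonoidHom) φ.injective ?_
          rw [h, map_inter]; exact e1
      cases k with
      | zero => exact absurd e1 (hne0 0)
      | succ k =>
        set X := inter φ P (k + 1) 0 with hXdef
        -- strictness below `k + 1`
        have hbelow : ∀ l, l ≤ k → Nat.card (inter φ P l 0) =
            p * Nat.card (inter φ P (l + 1) 0) := fun l hl => ih l (by omega) fun hb => hk (by
          have hle : ∀ m, l ≤ m → inter φ P m 0 ≤ inter φ P l 0 := fun m hm => by
            induction m, hm using Nat.le_induction with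
            | base => exact le_rfl
            | succ m _ ihm => exact inf_le_left.trans ihm
          exact le_bot_iff.mp (hb ▸ hle (k + 1) (by omega)))
        have hgen : ∀ l, l < k → ∀ i,
            inter φ P (l + 1) i ⊔ inter φ P (l + 1) (i + 1) = inter φ P l (i + 1) := by
          intro l hl i
          have hle : inter φ P (l + 1) i ⊔ inter φ P (l + 1) (i + 1) ≤ inter φ P l (i + 1) :=
            sup_le inf_le_right inf_le_left
          refine eq_of_le_of_card_ge hle ?_
          have h1 := card_dvd_of_le
            (le_sup_left : inter φ P (l + 1) i ≤ _ ⊔ inter φ P (l + 1) (i + 1))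
          have h2 := card_dvd_of_le hle
          rw [card_inter φ P l (i + 1), hbelow l (by omega), ← card_inter φ P (l + 1) i] at h2
          rw [card_inter φ P l (i + 1), hbelow l (by omega), ← card_inter φ P (l + 1) i]
          obtain ⟨q, hq⟩ := h1
          rw [hq, mul_comm p] at h2
          rcases (Nat.dvd_prime hp.out).mp ((Nat.mul_dvd_mul_iff_left Nat.card_pos).mp h2) with
            rfl | rfl
          · exfalso
            rw [mul_one] at hq
            have e' := eq_of_le_of_card_ge
              (le_sup_left : inter φ P (l + 1) i ≤ _ ⊔ inter φ P (l + 1) (i + 1)) hq.le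
            have e2 : inter φ P (l + 1) (i + 1) ≤ inter φ P (l + 1) i := e'.symm ▸ le_sup_right
            have e3 : inter φ P (l + 1 + 1) i = inter φ P (l + 1) (i + 1) := inf_eq_right.mpr e2
            have := hbelow (l + 1) (by omega)
            rw [← card_inter φ P (l + 1) (i + 1), ← e3, card_inter] at this
            have hpos := Nat.card_pos (α := inter φ P (l + 1 + 1) 0)
            nlinarith
          · rw [hq, mul_comm]
        have hbase : ∀ i, inter φ P k i ≤ normalizer (X : Set G) := fun i => by
          have := (hnorm k (i - 1)).1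
          rwa [sub_add_cancel, hX] at this
        have hdown : ∀ j, j ≤ k → ∀ i, inter φ P (k - j) i ≤ normalizer (X : Set G) := by
          intro j
          induction j with
          | zero => intro _ i; rw [Nat.sub_zero]; exact hbase i
          | succ j ihj =>
            intro hj i
            have h2 := hgen (k - (j + 1)) (by omega) (i - 1)
            rw [sub_add_cancel, show k - (j + 1) + 1 = k - j by omega] at h2
            rw [← h2]
            exact sup_le (ihj (by omega) _) (ihj (by omega) _)
        have hP : P ≤ normalizer (X : Set G) := by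
          have := hdown k le_rfl 0
          rw [Nat.sub_self] at this
          exact (trans_zero φ P).ge.trans this
        have hXle : ∀ l i, inter φ P l i ≤ trans φ P i := by
          intro l
          induction l with
          | zero => intro i; exact le_rfl
          | succ l ihl => intro i; exact inf_le_left.trans (ihl i)
        exact h1 X ((hXle (k + 1) 0).trans (trans_zero φ P).le) hP (by rw [hXdef, map_inter, hX])
  have hbot : ∃ k, inter φ P k 0 = ⊥ := by
    by_contra hall
    push Not at hall
    have : ∀ k, Nat.card (inter φ P k 0) + k ≤ Nat.card (inter φ P 0 0) := by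
      intro k
      induction k with
      | zero => simp
      | succ k ihk =>
        have h := hstrict k (hall k)
        have hpos := Nat.card_pos (α := inter φ P (k + 1) 0)
        nlinarith
    have h := this (Nat.card (inter φ P 0 0))
    have hpos := Nat.card_pos (α := inter φ P (Nat.card (inter φ P 0 0)) 0)
    omega
  set t := Nat.find hbot with ht
  have hcard : ∀ k, k ≤ t → ∀ i, Nat.card (inter φ P k i) = p ^ (t - k) := by
    suffices ∀ j, j ≤ t → Nat.card (inter φ P (t - j) 0) = p ^ j by
      intro k hk i
      rw [card_inter]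
      have := this (t - k) (by omega)
      rwa [show t - (t - k) = k by omega] at this
    intro j
    induction j with
    | zero => intro _; rw [Nat.sub_zero, Nat.find_spec hbot, card_bot, pow_zero]
    | succ j ihj =>
      intro hj
      have h := hstrict (t - (j + 1)) (Nat.find_min hbot (by omega))
      rw [show t - (j + 1) + 1 = t - j by omega, ihj (by omega)] at h
      rw [h, pow_succ, mul_comm]
  have hpos : 1 ≤ t := by
    by_contra h0
    have hb : inter φ P 0 0 = ⊥ := by
      have := Nat.find_spec hbot
      rwa [show Nat.find hbot = 0 by omega] at this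
    have hP : P = ⊥ := (trans_zero φ P).symm.trans hb
    refine hne0 0 ?_
    rw [← map_trans, trans_zero, hP, Subgroup.map_bot]
  have hstep : ∀ j, 1 ≤ j → j + 1 ≤ t → ∀ i,
      inter φ P j i ⊔ inter φ P j (i + 1) = inter φ P (j - 1) (i + 1) := by
    intro j hj hjt i
    obtain ⟨l, rfl⟩ : ∃ l, j = l + 1 := ⟨j - 1, by omega⟩
    rw [Nat.add_sub_cancel]
    have hle : inter φ P (l + 1) i ⊔ inter φ P (l + 1) (i + 1) ≤ inter φ P l (i + 1) :=
      sup_le inf_le_right inf_le_left
    refine eq_of_le_of_card_ge hle ?_
    have h1 := card_dvd_of_le hle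
    rw [hcard l (by omega)] at h1
    obtain ⟨m, hm, hm'⟩ := (Nat.dvd_prime_pow hp.out).mp h1
    rw [hcard l (by omega), hm']
    refine Nat.pow_le_pow_right hp.out.pos (not_lt.mp fun hlt => ?_)
    have e := eq_of_le_of_card_ge
      (le_sup_left : inter φ P (l + 1) i ≤ _ ⊔ inter φ P (l + 1) (i + 1))
      (by rw [hm', hcard (l + 1) (by omega)]; exact Nat.pow_le_pow_right hp.out.pos (by omega))
    have e2 : inter φ P (l + 1) (i + 1) ≤ inter φ P (l + 1) i := e ▸ le_sup_right
    have e3 : inter φ P (l + 1 + 1) i = inter φ P (l + 1) (i + 1) := inf_eq_right.mpr e2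
    have h := hcard (l + 1 + 1) hjt i
    rw [e3, hcard (l + 1) (by omega)] at h
    have := Nat.pow_right_injective hp.out.two_le h
    omega
  obtain ⟨e, he, he1⟩ : ∃ e ∈ inter φ P (t - 1) (1 - (t : ℤ)), e ≠ 1 := by
    by_contra hh
    push Not at hh
    have h := hcard (t - 1) (by omega) (1 - (t : ℤ))
    rw [(eq_bot_iff_forall _).mpr hh, card_bot, show t - (t - 1) = 1 by omega, pow_one] at h
    omega
  set x : ℤ → G := fun i => (φ ^ i) e with hxdef
  have hshift : ∀ i, φ (x i) = x (i + 1) := fun i => by
    show φ ((φ ^ i) e) = (φ ^ (i + 1)) e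
    rw [add_comm i 1, zpow_add, zpow_one, MulAut.mul_apply]
  have hxmem : ∀ i, x i ∈ inter φ P (t - 1) (i + 1 - t) := by
    refine forall_int ?_ fun i => ?_
    · rw [zero_add]
      show (φ ^ (0 : ℤ)) e ∈ _
      rw [zpow_zero]; exact he
    · rw [show i + 1 + 1 - (t : ℤ) = i + 1 - t + 1 by ring, ← map_inter, ← hshift]
      exact (mem_map_iff_mem (f := (φ : G ≃* G).toMonoidHom) φ.injective).symm
  have hwin : ∀ n, n + 1 ≤ t → ∀ i : ℤ,
      win x i (n + 1) = inter φ P (t - (n + 1)) (i + n + 1 - t) := by
    intro n
    induction n with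
    | zero =>
      intro hn i
      rw [Nat.cast_zero, add_zero, zero_add]
      have hle : win x i 1 ≤ inter φ P (t - 1) (i + 1 - t) :=
        win_le fun j h1 h2 => by rw [show j = i by omega]; exact hxmem i
      refine eq_of_le_of_card_ge hle ?_
      rw [hcard (t - 1) (by omega), show t - (t - 1) = 1 by omega, pow_one]
      have h1 := card_dvd_of_le hle
      rw [hcard (t - 1) (by omega), show t - (t - 1) = 1 by omega, pow_one] at h1
      rcases (Nat.dvd_prime hp.out).mp h1 with e' | e'
      · exfalso
        have : x i ∈ (⊥ : Subgroup G) := (Subgroup.card_eq_one.mp e') ▸ mem_win le_rfl (by omega)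
        exact he1 ((φ ^ i : MulAut G).injective ((mem_bot.mp this).trans (map_one _).symm))
      · rw [e']
    | succ n ih =>
      intro hn i
      have h := hstep (t - (n + 1)) (by omega) (by omega) (i + n + 1 - t)
      rw [show i + (n : ℤ) + 1 - t + 1 = i + 1 + n + 1 - t by ring, ← ih (by omega) i,
        ← ih (by omega) (i + 1), win_sup (by omega)] at h
      rw [h, show t - (n + 1) - 1 = t - (n + 1 + 1) by omega]
      congr 1
      push_cast; ring
  have hwt : ∀ i, win x i t = trans φ P i := by
    intro i
    obtain ⟨n, hn⟩ : ∃ n, t = n + 1 := ⟨t - 1, by omega⟩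
    rw [hn, hwin n (by omega) i, ← hn, Nat.sub_self,
      show i + (n : ℤ) + 1 - (t : ℤ) = i by omega]
    rfl
  exact ⟨t,
    { x := x
      φ := φ
      shift := hshift
      card_win := fun i n hn => by
        cases n with
        | zero => rw [win_zero, card_bot, pow_zero]
        | succ n => rw [hwin n hn i, hcard _ (by omega), show t - (t - (n + 1)) = n + 1 by omega]
      ne := fun i => by rw [hwt, hwt]; exact hne0 i
      pos := hpos }, hwt⟩

end Cfsg.Agent.Lib.GlaubSims
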